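import Cfsg.Agent.H97.Ly.Cert
import Cfsg.Agent.H97.Ly.Data.Deds

/-! The deductions. -/

set_option autoImplicit false
set_option maxRecDepth 100000

namespace H97.Ly

open Data

theorem tree_shape : cert.treeShape treeList = true := by decide +kernel

theorem start_ok : known0 = H23.DC.Cert.init (List.range 10) treeList := by decide +kernel

theorem deds0_ok : cert.dedAll known0 deds0 = some known1 := by decide +kernel

theorem deds1_ok : cert.dedAll known1 deds1 = some known2 := by decide +kernel

theorem deds2_ok : cert.dedAll known2 deds2 = some known3 := by decide +kernel

theorem deds3_ok : cert.dedAll known3 deds3 = some known4 := by decide +kernel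

theorem deds4_ok : cert.dedAll known4 deds4 = some known5 := by decide +kernel

theorem deds5_ok : cert.dedAll known5 deds5 = some known6 := by decide +kernel

theorem deds6_ok : cert.dedAll known6 deds6 = some known7 := by decide +kernel

theorem deds7_ok : cert.dedAll known7 deds7 = some known8 := by decide +kernel

theorem done_ok : cert.done known8 = true := by decide +kernel

theorem roots_ok : cert.rootsOK = true := by decide +kernel

end H97.Ly
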