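import Cfsg.Agent.H77.HN.Chain
import Cfsg.Agent.H97.Ly.Cert
import Cfsg.Agent.H97.Ly.Data.Levels

/-! Chains of the four orbit stabilisers. -/

set_option autoImplicit false
set_option maxRecDepth 100000

namespace H97.Ly

open H77.HN (chainCheck chainOrd)

theorem levels1_ok : chainCheck cert.T (cert.sg 1) [] Data.levels1 = true ∧
    chainOrd Data.levels1 = 300000 ∧ Data.levels1.all (fun p => Nat.blt p.1 19530) = true := by
  decide +kernel

theorem levels2_ok : chainCheck cert.T (cert.sg 2) [] Data.levels2 = true ∧
    chainOrd Data.levels2 = 2880 ∧ Data.levels2.all (fun p => Nat.blt p.1 19530) = true := by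
  decide +kernel

theorem levels3_ok : chainCheck cert.T (cert.sg 3) [] Data.levels3 = true ∧
    chainOrd Data.levels3 = 1008 ∧ Data.levels3.all (fun p => Nat.blt p.1 19530) = true := by
  decide +kernel

theorem levels4_ok : chainCheck cert.T (cert.sg 4) [] Data.levels4 = true ∧
    chainOrd Data.levels4 = 6048 ∧ Data.levels4.all (fun p => Nat.blt p.1 19530) = true := by
  decide +kernel

end H97.Ly
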