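import Cfsg.Agent.H77.HN.Checks
import Cfsg.Agent.H97.Ly.Cert

/-! The tree of orbit 0. -/

set_option autoImplicit false
set_option maxRecDepth 100000

namespace H97.Ly

open H77.HN (allBelow allBelow_glue)

theorem tree0_0 : allBelow (cert.treeEntry 0) 0 1953 = true := by decide +kernel

theorem tree0_1 : allBelow (cert.treeEntry 0) 1953 1953 = true := by decide +kernel

theorem tree0_2 : allBelow (cert.treeEntry 0) 3906 1953 = true := by decide +kernel

theorem tree0_3 : allBelow (cert.treeEntry 0) 5859 1953 = true := by decide +kernel

theorem tree0_4 : allBelow (cert.treeEntry 0) 7812 1953 = true := by decide +kernel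

theorem tree0_5 : allBelow (cert.treeEntry 0) 9765 1953 = true := by decide +kernel

theorem tree0_6 : allBelow (cert.treeEntry 0) 11718 1953 = true := by decide +kernel

theorem tree0_7 : allBelow (cert.treeEntry 0) 13671 1953 = true := by decide +kernel

theorem tree0_8 : allBelow (cert.treeEntry 0) 15624 1953 = true := by decide +kernel

theorem tree0_9 : allBelow (cert.treeEntry 0) 17577 1953 = true := by decide +kernel

theorem tree0_ok : allBelow (cert.treeEntry 0) 0 19530 = true :=
  (allBelow_glue (allBelow_glue (allBelow_glue (allBelow_glue (allBelow_glue (allBelow_glue (allBelow_glue (allBelow_glue (allBelow_glue tree0_0 tree0_1) tree0_2) tree0_3) tree0_4) tree0_5) tree0_6) tree0_7) tree0_8) tree0_9)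

end H97.Ly
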