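import Cfsg.Agent.H77.HN.Checks
import Cfsg.Agent.H97.Ly.Cert

/-! The tree of orbit 1. -/

set_option autoImplicit false
set_option maxRecDepth 100000

namespace H97.Ly

open H77.HN (allBelow allBelow_glue)

theorem tree1_0 : allBelow (cert.treeEntry 1) 0 1953 = true := by decide +kernel

theorem tree1_1 : allBelow (cert.treeEntry 1) 1953 1953 = true := by decide +kernel

theorem tree1_2 : allBelow (cert.treeEntry 1) 3906 1953 = true := by decide +kernel

theorem tree1_3 : allBelow (cert.treeEntry 1) 5859 1953 = true := by decide +kernel

theorem tree1_4 : allBelow (cert.treeEntry 1) 7812 1953 = true := by decide +kernel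

theorem tree1_5 : allBelow (cert.treeEntry 1) 9765 1953 = true := by decide +kernel

theorem tree1_6 : allBelow (cert.treeEntry 1) 11718 1953 = true := by decide +kernel

theorem tree1_7 : allBelow (cert.treeEntry 1) 13671 1953 = true := by decide +kernel

theorem tree1_8 : allBelow (cert.treeEntry 1) 15624 1953 = true := by decide +kernel

theorem tree1_9 : allBelow (cert.treeEntry 1) 17577 1953 = true := by decide +kernel

theorem tree1_ok : allBelow (cert.treeEntry 1) 0 19530 = true :=
  (allBelow_glue (allBelow_glue (allBelow_glue (allBelow_glue (allBelow_glue (allBelow_glue (allBelow_glue (allBelow_glue (allBelow_glue tree1_0 tree1_1) tree1_2) tree1_3) tree1_4) tree1_5) tree1_6) tree1_7) tree1_8) tree1_9)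

end H97.Ly
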