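import Cfsg.Agent.H77.HN.Checks
import Cfsg.Agent.H97.Ly.Cert

/-! The tree of orbit 2. -/

set_option autoImplicit false
set_option maxRecDepth 100000

namespace H97.Ly

open H77.HN (allBelow allBelow_glue)

theorem tree2_0 : allBelow (cert.treeEntry 2) 0 1953 = true := by decide +kernel

theorem tree2_1 : allBelow (cert.treeEntry 2) 1953 1953 = true := by decide +kernel

theorem tree2_2 : allBelow (cert.treeEntry 2) 3906 1953 = true := by decide +kernel

theorem tree2_3 : allBelow (cert.treeEntry 2) 5859 1953 = true := by decide +kernel

theorem tree2_4 : allBelow (cert.treeEntry 2) 7812 1953 = true := by decide +kernel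

theorem tree2_5 : allBelow (cert.treeEntry 2) 9765 1953 = true := by decide +kernel

theorem tree2_6 : allBelow (cert.treeEntry 2) 11718 1953 = true := by decide +kernel

theorem tree2_7 : allBelow (cert.treeEntry 2) 13671 1953 = true := by decide +kernel

theorem tree2_8 : allBelow (cert.treeEntry 2) 15624 1953 = true := by decide +kernel

theorem tree2_9 : allBelow (cert.treeEntry 2) 17577 1953 = true := by decide +kernel

theorem tree2_ok : allBelow (cert.treeEntry 2) 0 19530 = true :=
  (allBelow_glue (allBelow_glue (allBelow_glue (allBelow_glue (allBelow_glue (allBelow_glue (allBelow_glue (allBelow_glue (allBelow_glue tree2_0 tree2_1) tree2_2) tree2_3) tree2_4) tree2_5) tree2_6) tree2_7) tree2_8) tree2_9)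

end H97.Ly
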