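import Cfsg.Agent.H77.HN.Checks
import Cfsg.Agent.H97.Ly.Cert

/-! The tree of orbit 3. -/

set_option autoImplicit false
set_option maxRecDepth 100000

namespace H97.Ly

open H77.HN (allBelow allBelow_glue)

theorem tree3_0 : allBelow (cert.treeEntry 3) 0 1953 = true := by decide +kernel

theorem tree3_1 : allBelow (cert.treeEntry 3) 1953 1953 = true := by decide +kernel

theorem tree3_2 : allBelow (cert.treeEntry 3) 3906 1953 = true := by decide +kernel

theorem tree3_3 : allBelow (cert.treeEntry 3) 5859 1953 = true := by decide +kernel

theorem tree3_4 : allBelow (cert.treeEntry 3) 7812 1953 = true := by decide +kernel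

theorem tree3_5 : allBelow (cert.treeEntry 3) 9765 1953 = true := by decide +kernel

theorem tree3_6 : allBelow (cert.treeEntry 3) 11718 1953 = true := by decide +kernel

theorem tree3_7 : allBelow (cert.treeEntry 3) 13671 1953 = true := by decide +kernel

theorem tree3_8 : allBelow (cert.treeEntry 3) 15624 1953 = true := by decide +kernel

theorem tree3_9 : allBelow (cert.treeEntry 3) 17577 1953 = true := by decide +kernel

theorem tree3_ok : allBelow (cert.treeEntry 3) 0 19530 = true :=
  (allBelow_glue (allBelow_glue (allBelow_glue (allBelow_glue (allBelow_glue (allBelow_glue (allBelow_glue (allBelow_glue (allBelow_glue tree3_0 tree3_1) tree3_2) tree3_3) tree3_4) tree3_5) tree3_6) tree3_7) tree3_8) tree3_9)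

end H97.Ly
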