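import Cfsg.Agent.H77.HN.Checks
import Cfsg.Agent.H97.Ly.Cert

/-! The tree of orbit 4. -/

set_option autoImplicit false
set_option maxRecDepth 100000

namespace H97.Ly

open H77.HN (allBelow allBelow_glue)

theorem tree4_0 : allBelow (cert.treeEntry 4) 0 1953 = true := by decide +kernel

theorem tree4_1 : allBelow (cert.treeEntry 4) 1953 1953 = true := by decide +kernel

theorem tree4_2 : allBelow (cert.treeEntry 4) 3906 1953 = true := by decide +kernel

theorem tree4_3 : allBelow (cert.treeEntry 4) 5859 1953 = true := by decide +kernel

theorem tree4_4 : allBelow (cert.treeEntry 4) 7812 1953 = true := by decide +kernel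

theorem tree4_5 : allBelow (cert.treeEntry 4) 9765 1953 = true := by decide +kernel

theorem tree4_6 : allBelow (cert.treeEntry 4) 11718 1953 = true := by decide +kernel

theorem tree4_7 : allBelow (cert.treeEntry 4) 13671 1953 = true := by decide +kernel

theorem tree4_8 : allBelow (cert.treeEntry 4) 15624 1953 = true := by decide +kernel

theorem tree4_9 : allBelow (cert.treeEntry 4) 17577 1953 = true := by decide +kernel

theorem tree4_ok : allBelow (cert.treeEntry 4) 0 19530 = true :=
  (allBelow_glue (allBelow_glue (allBelow_glue (allBelow_glue (allBelow_glue (allBelow_glue (allBelow_glue (allBelow_glue (allBelow_glue tree4_0 tree4_1) tree4_2) tree4_3) tree4_4) tree4_5) tree4_6) tree4_7) tree4_8) tree4_9)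

end H97.Ly
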