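import Cfsg.Agent.H97.Ly.Cert
import Cfsg.Agent.H77.HN.Checks

/-!
The point 0 is the only one fixed by all eight stabiliser words.
-/

set_option autoImplicit false
set_option maxRecDepth 100000
set_option Elab.async false

namespace H97.Ly

open H77.HN (allBelow allBelow_spec runK)

/-- the point is 0 or is moved by a stabiliser word -/
noncomputable def movedB (p : ℕ) : Bool :=
  Nat.beq p 0 || (List.range 8).any fun t => !Nat.beq (runK T10 (wordOf (10 + t)) p) p

theorem moved0 : allBelow movedB 0 2500 = true := by decide +kernel

theorem moved1 : allBelow movedB 2500 2500 = true := by decide +kernel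

theorem moved2 : allBelow movedB 5000 2500 = true := by decide +kernel

theorem moved3 : allBelow movedB 7500 2500 = true := by decide +kernel

theorem moved4 : allBelow movedB 10000 2500 = true := by decide +kernel

theorem moved5 : allBelow movedB 12500 2500 = true := by decide +kernel

theorem moved6 : allBelow movedB 15000 2500 = true := by decide +kernel

theorem moved7 : allBelow movedB 17500 2030 = true := by decide +kernel

theorem moved {p : ℕ} (hp : p < 19530) : movedB p = true := by
  rcases Nat.lt_or_ge p 2500 with h0 | h0
  · exact allBelow_spec moved0 p (by omega) (by omega)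
  rcases Nat.lt_or_ge p 5000 with h1 | h1
  · exact allBelow_spec moved1 p (by omega) (by omega)
  rcases Nat.lt_or_ge p 7500 with h2 | h2
  · exact allBelow_spec moved2 p (by omega) (by omega)
  rcases Nat.lt_or_ge p 10000 with h3 | h3
  · exact allBelow_spec moved3 p (by omega) (by omega)
  rcases Nat.lt_or_ge p 12500 with h4 | h4
  · exact allBelow_spec moved4 p (by omega) (by omega)
  rcases Nat.lt_or_ge p 15000 with h5 | h5
  · exact allBelow_spec moved5 p (by omega) (by omega)
  rcases Nat.lt_or_ge p 17500 with h6 | h6
  · exact allBelow_spec moved6 p (by omega) (by omega)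
  exact allBelow_spec moved7 p (by omega) (by omega)

/-- words carrying 0 to the base points -/
def baseWords : List (ℕ × List ℕ) :=
  [(0, []), (66, [6, 4, 2, 0, 3, 6, 4, 6, 4]), (193, [2, 6, 4, 2, 0, 3, 6, 4]),
    (194, [2, 6, 4, 2, 0, 3, 6]), (195, [2, 6, 4, 2, 0, 3])]

theorem base_words : baseWords.all (fun q => Nat.beq (runK T10 q.2 0) q.1) = true ∧
    baseWords.map Prod.fst = Data.base := by decide +kernel

end H97.Ly
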